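import Cfsg.Agent.Lib.Transfer.NormalComplement
import Cfsg.Agent.Lib.PCore.PSolvable
import Cfsg.Agent.Lib.Solvable.MinNormal
import Cfsg.Agent.Lib.OrderCount.SameType

/-!
If `(x * y)^G = x^G * y^G` for all `p`-elements `x` and all primary `p'`-elements `y`, then `G` is
`p`-solvable: if the commutator `x` of such elements is nontrivial then `y` is conjugate to every
element of `N y`, `N` the normal closure of `x`, so the automizers in a minimal normal subgroup are
`p`-groups, and Frobenius' criterion applies.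
-/

set_option autoImplicit false

namespace CfsgLib.ClassMul

open Subgroup

universe u

/-- A primary element of a quotient lifts to a primary element. -/
theorem exists_lift_primePow {G H : Type*} [Group G] [Finite G] [Group H] (f : G →* H)
    (hf : Function.Surjective f) {q : ℕ} (hq : q.Prime) (x : H) {c : ℕ} (hx : orderOf x = q ^ c) :
    ∃ g : G, f g = x ∧ ∃ e : ℕ, orderOf g = q ^ e := by
  obtain ⟨g, rfl⟩ := hf x
  obtain ⟨e, m, hm, he⟩ := Nat.exists_eq_pow_mul_and_not_dvd (orderOf_pos g).ne' q hq.ne_one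
  have hcop : (q ^ c).Coprime m := (hq.coprime_iff_not_dvd.2 hm).pow_left c
  have h1 : q ^ c ∣ q ^ e := hcop.dvd_of_dvd_mul_right (by
    rw [← hx, ← he]; exact orderOf_map_dvd f g)
  have hz : ((q ^ e : ℕ) : ℤ) * Nat.gcdA (q ^ e) m + (m : ℤ) * Nat.gcdB (q ^ e) m = 1 := by
    rw [← Nat.gcd_eq_gcd_ab, ((hq.coprime_iff_not_dvd.2 hm).pow_left e).gcd_eq_one]; rfl
  refine ⟨g ^ ((m : ℤ) * Nat.gcdB (q ^ e) m), ?_, ?_⟩
  · rw [map_zpow]
    conv_rhs => rw [← zpow_one (f g), ← hz, zpow_add, zpow_mul, zpow_natCast]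
    rw [show f g ^ (q ^ e : ℕ) = 1 from orderOf_dvd_iff_pow_eq_one.1 (by rw [hx]; exact h1),
      one_zpow, one_mul]
  · obtain ⟨j, -, hj⟩ := (Nat.dvd_prime_pow hq).1
      (orderOf_dvd_of_pow_eq_one (n := q ^ e) (x := g ^ ((m : ℤ) * Nat.gcdB (q ^ e) m)) (by
        rw [← zpow_natCast, ← zpow_mul, show (m : ℤ) * Nat.gcdB (q ^ e) m * ((q ^ e : ℕ) : ℤ)
          = ((q ^ e * m : ℕ) : ℤ) * Nat.gcdB (q ^ e) m by push_cast; ring, zpow_mul, zpow_natCast,
          ← he, pow_orderOf_eq_one, one_zpow]))
    exact ⟨j, hj⟩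

/-- An element lies in a subgroup as soon as the prime power parts of it do. -/
theorem mem_of_forall_primary {G : Type*} [Group G] [Finite G] (C : Subgroup G) (g : G)
    (h : ∀ q k : ℕ, q.Prime → 0 < k → q ^ k ∣ orderOf g → g ^ (orderOf g / q ^ k) ∈ C) :
    g ∈ C := by
  have key : orderOf g ∣ Nat.card (C ⊓ zpowers g : Subgroup G) := by
    rw [Nat.dvd_iff_prime_pow_dvd_dvd]
    intro q k hq hd
    rcases k.eq_zero_or_pos with rfl | hk
    · simp
    · have hm : g ^ (orderOf g / q ^ k) ∈ C ⊓ zpowers g :=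
        ⟨h q k hq hk hd, pow_mem (mem_zpowers g) _⟩
      have := (C ⊓ zpowers g).orderOf_dvd_natCard hm
      rwa [orderOf_pow_orderOf_div (orderOf_pos g).ne' hd] at this
  have : C ⊓ zpowers g = zpowers g := by
    refine eq_of_le_of_card_ge inf_le_right ?_
    rw [Nat.card_zpowers]
    exact Nat.le_of_dvd Nat.card_pos key
  exact (this.symm ▸ mem_zpowers g : g ∈ C ⊓ zpowers g).1

theorem isPSolvable_aux (n : ℕ) : ∀ (G : Type u) [Group G] [Finite G], Nat.card G = n →
    ∀ (p : ℕ) [Fact p.Prime],
    (∀ x y : G, (∃ a : ℕ, orderOf x = p ^ a) → (∃ q b : ℕ, q.Prime ∧ q ≠ p ∧ orderOf y = q ^ b) →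
      ∀ a b : G, IsConj (x * y) (a * x * a⁻¹ * (b * y * b⁻¹))) →
    Cfsg.IsPSolvable p G := by
  induction n using Nat.strong_induction_on with
  | _ n IH =>
    intro G _ _ hn p hp h
    rcases subsingleton_or_nontrivial G with hs | hs
    · exact PCore.isPSolvable_of_isPGroup (IsPGroup.of_card (n := 0) (by simp))
    obtain ⟨N, hN⟩ := MinNormal.exists_isMinNormal (G := G)
    have hNn := hN.1
    -- the quotient
    have hquot : Cfsg.IsPSolvable p (G ⧸ N) := by
      refine IH _ ?_ (G ⧸ N) rfl p ?_
      · rw [← hn, card_eq_card_quotient_mul_card_subgroup N]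
        exact lt_mul_of_one_lt_right Nat.card_pos ((one_lt_card_iff_ne_bot N).2 hN.2.1)
      · rintro x y ⟨a, ha⟩ ⟨q, b, hq, hqp, hb⟩ u v
        obtain ⟨x', rfl, e, hx'⟩ := exists_lift_primePow _ (QuotientGroup.mk'_surjective N) hp.out x ha
        obtain ⟨y', rfl, e', hy'⟩ := exists_lift_primePow _ (QuotientGroup.mk'_surjective N) hq y hb
        obtain ⟨u', rfl⟩ := QuotientGroup.mk'_surjective N u
        obtain ⟨v', rfl⟩ := QuotientGroup.mk'_surjective N v
        have := (QuotientGroup.mk' N).map_isConj (h x' y' ⟨e, hx'⟩ ⟨q, e', hq, hqp, hy'⟩ u' v')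
        simpa only [map_mul, map_inv] using this
    refine PCore.isPSolvable_extension N ?_ hquot
    -- the automizers of the `p`-subgroups of `N` are `p`-groups
    have hfc : Transfer.FrobeniusCond p N := by
      intro Q hQ g hg hc
      refine mem_of_forall_primary _ g fun q k hq hk hd => ?_
      set y := g ^ (orderOf g / q ^ k) with hy
      have hyord : orderOf y = q ^ k := orderOf_pow_orderOf_div (orderOf_pos g).ne' hd
      have hqp : q ≠ p := by
        rintro rfl
        exact hp.out.coprime_iff_not_dvd.1 hc.symm ((dvd_pow_self q hk.ne').trans hd)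
      refine mem_centralizer_iff.2 fun v hv => ?_
      by_contra hne
      -- the commutator
      set x := v * (y * v⁻¹ * y⁻¹) with hx
      have hxQ : x ∈ Q := mul_mem hv
        ((mem_normalizer_iff.1 (pow_mem hg _) v⁻¹).1 (inv_mem hv))
      have hx1 : x ≠ 1 := fun h1 => hne (by
        calc v * y = x * (y * v) := by rw [hx]; group
          _ = y * v := by rw [h1, one_mul])
      obtain ⟨a, hxord⟩ := IsPGroup.iff_orderOf.1 hQ ⟨x, hxQ⟩
      rw [orderOf_mk] at hxord
      set X : G := (x : G)
      set Y : G := (y : G)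
      have hxy : IsConj Y (X * Y) := isConj_iff.2 ⟨(v : G), by
        simp only [X, Y, hx, coe_mul, InvMemClass.coe_inv]; group⟩
      have hstep : ∀ c z : G, IsConj Y z → IsConj Y (c * X * c⁻¹ * z) := by
        intro c z hz
        obtain ⟨b, rfl⟩ := isConj_iff.1 hz
        exact hxy.trans (h X Y ⟨a, by rw [orderOf_coe]; exact hxord⟩
          ⟨q, k, hq, hqp, by rw [orderOf_coe]; exact hyord⟩ c b)
      let S : Submonoid G :=
        { carrier := {m | ∀ z, IsConj Y z → IsConj Y (m * z)}
          mul_mem' := fun {a b} ha hb z hz => by rw [mul_assoc]; exact ha _ (hb z hz)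
          one_mem' := fun z hz => by rwa [one_mul] }
      have hcl : ∀ m ∈ normalClosure ({X} : Set G), m ∈ S := by
        intro m hm
        refine Subgroup.closure_induction (p := fun m _ => m ∈ S) ?_ S.one_mem
          (fun _ _ _ _ ha hb => S.mul_mem ha hb) ?_ hm
        · intro m hm
          obtain ⟨X', hX', hc⟩ := Group.mem_conjugatesOfSet_iff.1 hm
          rw [Set.mem_singleton_iff.1 hX'] at hc
          obtain ⟨c, rfl⟩ := isConj_iff.1 hc
          exact hstep c
        · intro m _ hm
          rw [← mul_right_injective m |>.eq_iff |>.1 (show m * m ^ (orderOf m - 1) = m * m⁻¹ by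
            rw [← pow_succ', Nat.sub_add_cancel (orderOf_pos m), pow_orderOf_eq_one,
              mul_inv_cancel])]
          exact S.pow_mem hm _
      have hXN : normalClosure ({X} : Set G) = N := by
        rcases hN.2.2 (normalClosure ({X} : Set G)) normalClosure_normal
          (normalClosure_le_normal (Set.singleton_subset_iff.2 x.2)) with h1 | h1
        · exfalso
          have hX : X ∈ normalClosure ({X} : Set G) := subset_normalClosure rfl
          rw [h1, mem_bot] at hX
          exact hx1 (Subtype.ext hX)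
        · exact h1
      have hY : IsConj Y (Y⁻¹ * Y) := hcl Y⁻¹ (hXN ▸ inv_mem y.2) Y (IsConj.refl Y)
      rw [inv_mul_cancel, isConj_one_left] at hY
      refine hne ?_
      rw [show y = 1 from Subtype.ext hY, mul_one, one_mul]
    obtain ⟨P, M, hM, hc⟩ := Transfer.hasNormalPComplement_of_frobeniusCond hfc
    have hMp : ¬ p ∣ Nat.card M := by rw [← hc.index_eq_card]; exact P.not_dvd_index
    have hcop : (Nat.card M).Coprime M.index := by
      rw [hc.symm.index_eq_card]
      obtain ⟨k, hk⟩ := IsPGroup.iff_card.1 P.2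
      rw [hk]
      exact (hp.out.coprime_iff_not_dvd.2 hMp).symm.pow_right k
    have hMn : (M.map N.subtype).Normal := by
      refine ⟨fun z hz c => ?_⟩
      obtain ⟨w, hw, rfl⟩ := hz
      refine ⟨⟨_, hNn.conj_mem _ w.2 c⟩,
        (OrderCount.mem_iff_pow_card_eq_one M hcop _).2 (Subtype.ext ?_), rfl⟩
      have h1 : (w : G) ^ Nat.card M = 1 := by
        rw [← SubmonoidClass.coe_pow, (OrderCount.mem_iff_pow_card_eq_one M hcop w).1 hw]; rfl
      simp only [SubmonoidClass.coe_pow, coe_one]
      rw [conj_pow, h1, mul_one, mul_inv_cancel]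
    rcases hN.2.2 _ hMn (map_subtype_le M) with h1 | h1
    · refine PCore.isPSolvable_of_isPGroup (IsPGroup.iff_card.2 ?_)
      obtain ⟨k, hk⟩ := IsPGroup.iff_card.1 P.2
      rw [map_eq_bot_iff_of_injective _ N.subtype_injective] at h1
      refine ⟨k, ?_⟩
      rw [← hc.card_mul, h1, card_bot, one_mul, hk]
    · refine PCore.isPSolvable_of_coprime ?_
      rw [show Nat.card N = Nat.card M by rw [← card_map_of_injective N.subtype_injective, h1]]
      exact (hp.out.coprime_iff_not_dvd.2 hMp).symm

end CfsgLib.ClassMul
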